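import Groth.Agent.Lib.GeomIrr18.Bridge
import Groth.Agent.Lib.AssPts11.Basic
import Groth.Agent.Lib.FlatH4.GenPt
import Mathlib.AlgebraicGeometry.Morphisms.UniversallyOpen
import Mathlib.AlgebraicGeometry.Morphisms.Integral
import Mathlib.RingTheory.AlgebraicIndependent.TranscendenceBasis
import Mathlib.RingTheory.AlgebraicIndependent.Adjoin
import Mathlib.RingTheory.TensorProduct.MvPolynomial
import Mathlib.RingTheory.Flat.Basic

/-!
# Maximal points of fibres of a field extension
-/

set_option autoImplicit false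
set_option linter.style.haveILetI false
set_option backward.isDefEq.respectTransparency false

universe u

open CategoryTheory CategoryTheory.Limits AlgebraicGeometry TopologicalSpace TensorProduct

namespace Groth.Agent.ExtFibre20

/-- A rational function field stays a domain after any field extension. -/
theorem isDomain_tensor_fractionRing (k κ : Type u) [Field k] [Field κ] [Algebra k κ] (ι : Type u) :
    IsDomain (κ ⊗[k] FractionRing (MvPolynomial ι k)) := by
  let P := MvPolynomial ι k
  let F := FractionRing P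
  let i : κ ⊗[k] P →ₐ[k] κ ⊗[k] F := Algebra.TensorProduct.map (AlgHom.id k κ) (IsScalarTower.toAlgHom k P F)
  have hi : Function.Injective i :=
    Module.Flat.lTensor_preserves_injective_linearMap (M := κ) ((IsScalarTower.toAlgHom k P F).toLinearMap)
      (IsFractionRing.injective P F)
  haveI : IsDomain (κ ⊗[k] P) :=
    (MvPolynomial.scalarRTensorAlgEquiv (R := k) (N := κ) (σ := ι)).toMulEquiv.isDomain
  have hden : ∀ x : κ ⊗[k] F, ∃ (d : P) (y : κ ⊗[k] P),
      IsUnit ((1 : κ) ⊗ₜ[k] algebraMap P F d) ∧ x * ((1 : κ) ⊗ₜ[k] algebraMap P F d) = i y := fun x => by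
    induction x using TensorProduct.induction_on with
    | zero => exact ⟨1, 0, by rw [map_one]; exact isUnit_one, by rw [zero_mul, map_zero]⟩
    | tmul a z =>
      obtain ⟨⟨p, d⟩, hz⟩ := IsLocalization.surj (nonZeroDivisors P) z
      refine ⟨d, a ⊗ₜ p, (IsLocalization.map_units F d).map
        (Algebra.TensorProduct.includeRight : F →ₐ[k] κ ⊗[k] F), ?_⟩
      rw [Algebra.TensorProduct.tmul_mul_tmul, mul_one, hz]
      rfl
    | add a b ha hb =>
      obtain ⟨d, y, hd, hy⟩ := ha
      obtain ⟨e, z, he, hz⟩ := hb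
      have hde : (1 : κ) ⊗ₜ[k] algebraMap P F (d * e) =
          ((1 : κ) ⊗ₜ[k] algebraMap P F d) * ((1 : κ) ⊗ₜ[k] algebraMap P F e) := by
        rw [Algebra.TensorProduct.tmul_mul_tmul, one_mul, map_mul]
      refine ⟨d * e, y * ((1 : κ) ⊗ₜ[k] e) + z * ((1 : κ) ⊗ₜ[k] d), ?_, ?_⟩
      · rw [hde]; exact hd.mul he
      · rw [hde, map_add, map_mul, map_mul, ← hy, ← hz]
        show _ = a * _ * ((1 : κ) ⊗ₜ[k] algebraMap P F e) + b * _ * ((1 : κ) ⊗ₜ[k] algebraMap P F d)
        ring
  haveI : Nontrivial (κ ⊗[k] F) := hi.nontrivial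
  haveI : NoZeroDivisors (κ ⊗[k] F) := ⟨fun {x y} hxy => by
    obtain ⟨d, x', hd, hx⟩ := hden x
    obtain ⟨e, y', he, hy⟩ := hden y
    have h : i (x' * y') = 0 := by rw [map_mul, ← hx, ← hy, mul_mul_mul_comm, hxy, zero_mul]
    rcases mul_eq_zero.1 ((map_eq_zero_iff i hi).1 h) with h' | h'
    · exact Or.inl (hd.mul_left_eq_zero.1 (hx.trans (by rw [h', map_zero])))
    · exact Or.inr (he.mul_left_eq_zero.1 (hy.trans (by rw [h', map_zero])))⟩
  exact NoZeroDivisors.to_isDomain _

/-- Every field extension is algebraic over a geometrically irreducible subextension. -/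
theorem exists_geometricallyIrreducible_subextension (k K : Type u) [Field k] [Field K] [Algebra k K] :
    ∃ L : IntermediateField k K, Algebra.IsIntegral L K ∧
      GeometricallyIrreducible (Spec.map (CommRingCat.ofHom (algebraMap k L))) := by
  obtain ⟨ι, x, hx⟩ := exists_isTranscendenceBasis' k K
  refine ⟨IntermediateField.adjoin k (Set.range x), ?_, ?_⟩
  · haveI := hx.isAlgebraic_field
    exact Algebra.IsAlgebraic.isIntegral
  · refine (GeomIrr.geometricallyIrreducible_iff_tensor k _).2 fun κ _ _ => ?_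
    haveI := isDomain_tensor_fractionRing k κ ι
    haveI : IsDomain (κ ⊗[k] IntermediateField.adjoin k (Set.range x)) :=
      (Algebra.TensorProduct.congr AlgEquiv.refl hx.1.aevalEquivField.symm :
        κ ⊗[k] IntermediateField.adjoin k (Set.range x) ≃ₐ[k] κ ⊗[k] FractionRing (MvPolynomial ι k)).toMulEquiv.isDomain
    infer_instance

section Top

variable {α : Type*} [TopologicalSpace α] [QuasiSober α]

theorem closure_mem_irreducibleComponents_iff (z : α) :
    closure {z} ∈ irreducibleComponents α ↔ ∀ w : α, w ⤳ z → z ⤳ w := by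
  constructor
  · intro h w hw
    have hle : closure {z} ⊆ closure {w} := specializes_iff_closure_subset.1 hw
    exact specializes_iff_closure_subset.2 (h.2 isIrreducible_singleton.closure hle)
  · intro h
    refine ⟨isIrreducible_singleton.closure, fun C hC hle => ?_⟩
    obtain ⟨w, hw⟩ := QuasiSober.sober hC.closure isClosed_closure
    have hwz : closure {z} ⊆ closure {w} := by rw [hw.def]; exact hle.trans subset_closure
    refine subset_closure.trans ?_
    rw [← hw.def]
    exact specializes_iff_closure_subset.1 (h w (specializes_iff_closure_subset.2 hwz))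

end Top

/-- The set of points with a maximal point of the fibre in a closed set is closed, and misses the maximal points. -/
theorem isOpen_and_dense {k : Type u} [Field k] {K : Type u} [Field K] [Algebra k K] {G : Scheme.{u}}
    (f : G ⟶ Spec (.of k)) (W : (pullback f (Spec.map (CommRingCat.ofHom (algebraMap k K)))).Opens)
    (hW : Dense (W : Set ↥(pullback f (Spec.map (CommRingCat.ofHom (algebraMap k K))))))
    [LocallyOfFiniteType f] :
    IsOpen {g : G | ∀ z : ↥((pullback.fst f (Spec.map (CommRingCat.ofHom (algebraMap k K)))).base ⁻¹' {g}),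
      closure {z} ∈ irreducibleComponents
        ↥((pullback.fst f (Spec.map (CommRingCat.ofHom (algebraMap k K)))).base ⁻¹' {g}) → z.1 ∈ W} ∧
    Dense {g : G | ∀ z : ↥((pullback.fst f (Spec.map (CommRingCat.ofHom (algebraMap k K)))).base ⁻¹' {g}),
      closure {z} ∈ irreducibleComponents
        ↥((pullback.fst f (Spec.map (CommRingCat.ofHom (algebraMap k K)))).base ⁻¹' {g}) → z.1 ∈ W} := by
  obtain ⟨L, hint, hgi⟩ := exists_geometricallyIrreducible_subextension k K
  let sK := Spec.map (CommRingCat.ofHom (algebraMap k K))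
  let sL := Spec.map (CommRingCat.ofHom (algebraMap k L))
  let j := Spec.map (CommRingCat.ofHom (algebraMap L K))
  haveI : IsIntegralHom j := IsIntegralHom.SpecMap_iff.2 fun x => hint.isIntegral x
  haveI : Flat j := (HasRingHomProperty.Spec_iff (P := @Flat)).2 (RingHom.flat_algebraMap_iff.2 inferInstance)
  haveI : GeometricallyIrreducible sL := hgi
  have hj : j ≫ sL = sK := by
    rw [← Spec.map_comp, ← CommRingCat.ofHom_comp, ← IsScalarTower.algebraMap_eq]
  let π := pullback.fst f sK
  let ρ := pullback.fst f sL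
  let q : pullback f sK ⟶ pullback f sL :=
    pullback.map f sK f sL (𝟙 G) j (𝟙 _) (by simp) (by rw [Category.comp_id, hj])
  have hq1 : q ≫ ρ = π := (pullback.lift_fst _ _ _).trans (Category.comp_id _)
  have hq2 : q ≫ pullback.snd f sL = pullback.snd f sK ≫ j := pullback.lift_snd _ _ _
  have hqp : IsPullback q (pullback.snd f sK) (pullback.snd f sL) j := by
    refine IsPullback.of_right (h₁₂ := ρ) (h₂₂ := sL) (v₁₃ := f) ?_ hq2 (IsPullback.of_hasPullback f sL)
    rw [hq1, hj]
    exact IsPullback.of_hasPullback f sK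
  haveI : IsIntegralHom q := MorphismProperty.of_isPullback hqp.flip ‹IsIntegralHom j›
  haveI : Flat q := MorphismProperty.of_isPullback hqp.flip ‹Flat j›
  haveI : UniversallyOpen ρ := inferInstanceAs (UniversallyOpen (pullback.fst f sL))
  haveI : GeometricallyIrreducible ρ := inferInstanceAs (GeometricallyIrreducible (pullback.fst f sL))
  have hπq : ∀ z, ρ (q z) = π z := fun z => by rw [← Scheme.Hom.comp_apply, hq1]
  let Z : Set ↥(pullback f sK) := (W : Set ↥(pullback f sK))ᶜ
  have hC : IsClosed (q '' Z) := q.isClosedMap _ W.isOpen.isClosed_compl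
  haveI : ∀ g, QuasiSober ↥(π.base ⁻¹' {g}) := fun g => (π.fiberHomeo g).symm.isOpenEmbedding.quasiSober
  have hmax : ∀ (g : G) (z : ↥(π.base ⁻¹' {g})), closure {z} ∈ irreducibleComponents ↥(π.base ⁻¹' {g}) ↔
      ∀ y, ρ y = g → q z.1 ⤳ y := by
    intro g z
    rw [closure_mem_irreducibleComponents_iff]
    constructor
    · intro h y hy
      haveI : IrreducibleSpace (ρ.fiber g) := inferInstance
      haveI : IrreducibleSpace ↥(ρ.base ⁻¹' {g}) := (ρ.fiberHomeo g).irreducibleSpace_iff.1 inferInstance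
      haveI : QuasiSober ↥(ρ.base ⁻¹' {g}) := (ρ.fiberHomeo g).symm.isOpenEmbedding.quasiSober
      obtain ⟨η, hη⟩ := QuasiSober.sober (IrreducibleSpace.isIrreducible_univ ↥(ρ.base ⁻¹' {g})) isClosed_univ
      have hgen : ∀ a : ↥(ρ.base ⁻¹' {g}), η.1 ⤳ a.1 := fun a => (subtype_specializes_iff _ _).1 (hη.specializes trivial)
      have hzg : ρ (q z.1) = g := (hπq z.1).trans z.2
      obtain ⟨z', hz', hqz'⟩ := Flat.generalizingMap q (hgen ⟨q z.1, hzg⟩)
      have hz'g : π z' = g := by rw [← hπq, hqz']; exact η.2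
      have hzz' : z.1 ⤳ z' := (subtype_specializes_iff _ _).1 (h ⟨z', hz'g⟩ ((subtype_specializes_iff _ _).2 hz'))
      refine ((hzz'.map q.continuous).trans ?_)
      rw [hqz']
      exact hgen ⟨y, hy⟩
    · intro h w hw
      have hw' : w.1 ⤳ z.1 := (subtype_specializes_iff _ _).1 hw
      have h1 : q z.1 ⤳ q w.1 := h _ ((hπq w.1).trans w.2)
      have he : q w.1 = q z.1 := ((hw'.map q.continuous).antisymm h1).eq
      exact specializes_of_eq (Subtype.ext (AssPts11.eq_of_specializes_of_isIntegralHom q hw' he))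
  have hbad : {g : G | ∀ z : ↥(π.base ⁻¹' {g}), closure {z} ∈ irreducibleComponents ↥(π.base ⁻¹' {g}) → z.1 ∈ W} =
      ρ '' (q '' Z)ᶜ := by
    ext g
    constructor
    · intro h
      haveI : IrreducibleSpace (ρ.fiber g) := inferInstance
      haveI : IrreducibleSpace ↥(ρ.base ⁻¹' {g}) := (ρ.fiberHomeo g).irreducibleSpace_iff.1 inferInstance
      haveI : QuasiSober ↥(ρ.base ⁻¹' {g}) := (ρ.fiberHomeo g).symm.isOpenEmbedding.quasiSober
      obtain ⟨η, hη⟩ := QuasiSober.sober (IrreducibleSpace.isIrreducible_univ ↥(ρ.base ⁻¹' {g})) isClosed_univ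
      refine ⟨η.1, ?_, η.2⟩
      rintro ⟨z, hz, hzη⟩
      have hzg : π z = g := by rw [← hπq, hzη]; exact η.2
      refine hz (h ⟨z, hzg⟩ ((hmax g ⟨z, hzg⟩).2 fun y hy => ?_))
      show q z ⤳ y
      rw [hzη]
      exact (subtype_specializes_iff _ _).1 (hη.specializes (y := (⟨y, hy⟩ : ↥(ρ.base ⁻¹' {g}))) trivial)
    · rintro ⟨y, hy, rfl⟩ z hz
      by_contra hzW
      exact hy (((hmax _ z).1 hz y rfl).mem_closed hC ⟨z.1, hzW, rfl⟩)
  refine ⟨?_, ?_⟩
  · change IsOpen {g : G | ∀ z : ↥(π.base ⁻¹' {g}), closure {z} ∈ irreducibleComponents ↥(π.base ⁻¹' {g}) → z.1 ∈ W}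
    rw [hbad]
    exact ρ.isOpenMap _ hC.isOpen_compl
  · change Dense {g : G | ∀ z : ↥(π.base ⁻¹' {g}), closure {z} ∈ irreducibleComponents ↥(π.base ⁻¹' {g}) → z.1 ∈ W}
    rw [hbad, dense_iff_inter_open]
    intro V hV ⟨g, hg⟩
    haveI : IsLocallyNoetherian G := LocallyOfFiniteType.isLocallyNoetherian f
    haveI : Surjective π := inferInstanceAs (Surjective (pullback.fst f sK))
    haveI : IsLocallyNoetherian (pullback f sK) := LocallyOfFiniteType.isLocallyNoetherian (pullback.snd f sK)
    obtain ⟨a, hza⟩ := π.surjective g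
    have hVK : IsOpen (π.base ⁻¹' V) := hV.preimage π.continuous
    obtain ⟨η, hηmax, hηa⟩ := FlatH4.exists_isMaxPt_specializes a
    refine ⟨ρ (q η), ?_, q η, ?_, rfl⟩
    · rw [hπq]; exact hηa.mem_open hVK (show π a ∈ V by rw [hza]; exact hg)
    · rintro ⟨z, hz, hzq⟩
      refine hz (FlatH4.IsMaxPt.mem_of_dense (fun w hw => ?_) W.isOpen hW)
      have h1 : q w = q z := (hzq ▸ hηmax.map_of_flat q) (q w) (hw.map q.continuous)
      exact (AssPts11.eq_of_specializes_of_isIntegralHom q hw h1).symm

end Groth.Agent.ExtFibre20
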